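import Groth.Prelude.Def_EtAlgD
import Groth.Agent.Lib.WEtaleH7.Field
import Groth.Agent.Lib.SepTensor20.Main
import Mathlib.FieldTheory.PurelyInseparable.Basic
import Mathlib.RingTheory.Trace.Basic
import Mathlib.RingTheory.Flat.Basic

/-!
# The maximal weakly etale subalgebra commutes with extensions of the ground field
-/

set_option autoImplicit false
set_option linter.style.haveILetI false
set_option linter.unusedSectionVars false

universe u

open TensorProduct Polynomial

namespace Groth.Agent.MaxWE3

/-- Annihilated by a separable polynomial. -/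
def SepEl (K : Type u) [Field K] {A : Type u} [CommRing A] [Algebra K A] (x : A) : Prop :=
  ∃ P : K[X], P.Separable ∧ aeval x P = 0

variable {K : Type u} [Field K] {A : Type u} [CommRing A] [Algebra K A]

theorem mem_max_iff (x : A) : x ∈ EtAlgD.maxWeaklyEtale K A ↔ SepEl K x := by
  constructor
  · intro hx
    refine WEtaleH7.exists_separable_of_mem_adjoin (s := {y : A | SepEl K y}) (fun y hy => hy) ?_
    have hle : EtAlgD.maxWeaklyEtale K A ≤ Algebra.adjoin K {y : A | SepEl K y} :=
      sSup_le fun S hS y hy => Algebra.subset_adjoin ((WEtaleH7.weaklyEtale_subalgebra_iff S).1 hS y hy)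
    exact hle hx
  · intro hx
    have hw : Algebra.WeaklyEtale K (Algebra.adjoin K {x}) :=
      WEtaleH7.weaklyEtale_adjoin fun y hy => by rw [Set.mem_singleton_iff.1 hy]; exact hx
    exact le_sSup (a := Algebra.adjoin K {x}) hw (Algebra.self_mem_adjoin_singleton K x)

theorem SepEl.map {B : Type u} [CommRing B] [Algebra K B] (φ : A →ₐ[K] B) {x : A} (h : SepEl K x) :
    SepEl K (φ x) := by
  obtain ⟨P, hP, hx⟩ := h
  exact ⟨P, hP, by rw [aeval_algHom_apply, hx, map_zero]⟩

theorem SepEl.of_injective {B : Type u} [CommRing B] [Algebra K B] {φ : A →ₐ[K] B} (hφ : Function.Injective φ)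
    {x : A} (h : SepEl K (φ x)) : SepEl K x := by
  obtain ⟨P, hP, hx⟩ := h
  exact ⟨P, hP, hφ (by rw [← aeval_algHom_apply, hx, map_zero])⟩

theorem SepEl.extend {L : Type u} [Field L] [Algebra K L] [Algebra L A] [IsScalarTower K L A] {x : A}
    (h : SepEl K x) : SepEl L x := by
  obtain ⟨P, hP, hx⟩ := h
  exact ⟨P.map (algebraMap K L), hP.map, by rw [aeval_map_algebraMap, hx]⟩

theorem sepEl_idempotent {e : A} (he : IsIdempotentElem e) : SepEl K e :=
  ⟨(X - C (0 : K)) * (X - C 1), Separable.mul separable_X_sub_C separable_X_sub_C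
    (isCoprime_X_sub_C_of_isUnit_sub (by simp)), by simp [mul_sub, he.eq]⟩

section Trace

variable {Ω : Type u} [Field Ω] [Algebra K Ω] [IsAlgClosed Ω]

/-- The maximal weakly etale subalgebra, base changed, inside the base change. -/
noncomputable def ext (L : Type u) [Field L] [Algebra K L] (A : Type u) [CommRing A] [Algebra K A] :
    Subalgebra L (L ⊗[K] A) :=
  (Algebra.TensorProduct.map (AlgHom.id L L) (EtAlgD.maxWeaklyEtale K A).val).range

theorem tmul_mem_ext {L : Type u} [Field L] [Algebra K L] (x : L) {a : A} (ha : SepEl K a) :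
    x ⊗ₜ[K] a ∈ ext L A :=
  ⟨x ⊗ₜ ⟨a, (mem_max_iff a).2 ha⟩, rfl⟩

/-- Idempotents after a finite separable extension come from the maximal weakly etale subalgebra. -/
theorem idem_finite (F : IntermediateField K Ω) [FiniteDimensional K F] [Algebra.IsSeparable K F]
    {e : F ⊗[K] A} (he : IsIdempotentElem e) :
    Algebra.TensorProduct.map F.val (AlgHom.id K A) e ∈ ext Ω A := by
  classical
  let b := Module.finBasis K F
  let bd := LinearMap.BilinForm.dualBasis (Algebra.traceForm K F) (traceForm_nondegenerate K F) b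
  let B := Algebra.TensorProduct.basis A b
  have hsum : e = ∑ i, b i ⊗ₜ[K] ((Algebra.TensorProduct.comm K F A e |> B.repr) i) := by
    apply (Algebra.TensorProduct.comm K F A).injective
    conv_lhs => rw [← B.sum_repr (Algebra.TensorProduct.comm K F A e)]
    rw [map_sum]
    refine Finset.sum_congr rfl fun i _ => ?_
    rw [Algebra.TensorProduct.comm_tmul, Algebra.TensorProduct.basis_apply, TensorProduct.smul_tmul', smul_eq_mul,
      mul_one]
  generalize ha : (fun i => (Algebra.TensorProduct.comm K F A e |> B.repr) i) = a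
  replace hsum : e = ∑ i, b i ⊗ₜ[K] a i := by rw [hsum, ← ha]
  clear ha
  have key : ∀ i, SepEl K (a i) := by
    intro i
    refine SepEl.of_injective (φ := (Algebra.TensorProduct.includeRight : A →ₐ[K] Ω ⊗[K] A))
      (Algebra.TensorProduct.includeRight_injective (algebraMap K Ω).injective) ?_
    have h1 : ∀ k, (∑ σ : F →ₐ[K] Ω, σ (bd i * b k)) = if k = i then 1 else 0 := by
      intro k
      rw [← trace_eq_sum_embeddings Ω]
      have := LinearMap.BilinForm.apply_dualBasis_left (B := Algebra.traceForm K F) (traceForm_nondegenerate K F) b i k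
      rw [Algebra.traceForm_apply] at this
      rw [this]
      split_ifs <;> simp
    have h2 : (∑ σ : F →ₐ[K] Ω, (σ (bd i) ⊗ₜ[K] (1 : A)) * Algebra.TensorProduct.map σ (AlgHom.id K A) e) =
        (1 : Ω) ⊗ₜ[K] a i := by
      have : ∀ σ : F →ₐ[K] Ω, (σ (bd i) ⊗ₜ[K] (1 : A)) * Algebra.TensorProduct.map σ (AlgHom.id K A) e =
          ∑ k, σ (bd i * b k) ⊗ₜ[K] a k := fun σ => by
        rw [hsum, map_sum, Finset.mul_sum]
        refine Finset.sum_congr rfl fun k _ => ?_
        rw [Algebra.TensorProduct.map_tmul, Algebra.TensorProduct.tmul_mul_tmul, one_mul, ← map_mul]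
        rfl
      rw [Finset.sum_congr rfl fun σ _ => this σ, Finset.sum_comm]
      simp only [← TensorProduct.sum_tmul, h1]
      rw [Finset.sum_eq_single i]
      · simp
      · intro k _ hk; simp [hk]
      · simp
    show SepEl K ((1 : Ω) ⊗ₜ[K] a i)
    rw [← h2]
    refine WEtaleH7.exists_separable_of_mem_adjoin (s := {y : Ω ⊗[K] A | SepEl K y}) (fun y hy => hy) ?_
    refine sum_mem fun σ _ => mul_mem (Algebra.subset_adjoin ?_) (Algebra.subset_adjoin ?_)
    · exact SepEl.map ((Algebra.TensorProduct.includeLeft : Ω →ₐ[K] Ω ⊗[K] A).comp σ)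
        ⟨minpoly K (bd i), Algebra.IsSeparable.isSeparable K (bd i), minpoly.aeval K _⟩
    · exact sepEl_idempotent (he.map _)
  rw [hsum, map_sum]
  exact sum_mem fun i _ => tmul_mem_ext _ (key i)

/-- Idempotents of the base change to an algebraic algebraically closed field. -/
theorem idem_algClosed [Algebra.IsAlgebraic K Ω] {e : Ω ⊗[K] A} (he : IsIdempotentElem e) : e ∈ ext Ω A := by
  rcases subsingleton_or_nontrivial (Ω ⊗[K] A) with h | h
  · rw [Subsingleton.elim e 0]; exact zero_mem _
  obtain ⟨q, hq⟩ := ExpChar.exists K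
  haveI : ExpChar Ω q := expChar_of_injective_algebraMap (algebraMap K Ω).injective q
  haveI : ExpChar (Ω ⊗[K] A) q := expChar_of_injective_algebraMap (algebraMap K (Ω ⊗[K] A)).injective q
  let S := separableClosure K Ω
  haveI : ExpChar S q := expChar_of_injective_algebraMap (algebraMap K S).injective q
  let ι : S ⊗[K] A →ₐ[K] Ω ⊗[K] A := Algebra.TensorProduct.map S.val (AlgHom.id K A)
  have hp : ∀ z : Ω ⊗[K] A, ∃ N, ∀ n, N ≤ n → z ^ q ^ n ∈ ι.range := by
    intro z
    induction z using TensorProduct.induction_on with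
    | zero => exact ⟨0, fun n _ => by rw [zero_pow (pow_pos (expChar_pos K q) n).ne']; exact zero_mem _⟩
    | tmul x a =>
      obtain ⟨N, y, hy⟩ := IsPurelyInseparable.pow_mem S q x
      refine ⟨N, fun n hn => ⟨(y ^ q ^ (n - N)) ⊗ₜ[K] (a ^ q ^ n), ?_⟩⟩
      rw [Algebra.TensorProduct.tmul_pow]
      show (S.val (y ^ q ^ (n - N))) ⊗ₜ[K] _ = _
      rw [map_pow, show S.val y = algebraMap S Ω y from rfl, hy, ← pow_mul, ← pow_add, Nat.add_sub_cancel' hn]
      rfl
    | add x y hx hy =>
      obtain ⟨N, hx⟩ := hx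
      obtain ⟨N', hy⟩ := hy
      refine ⟨max N N', fun n hn => ?_⟩
      rw [add_pow_expChar_pow]
      exact add_mem (hx n (le_of_max_le_left hn)) (hy n (le_of_max_le_right hn))
  obtain ⟨N, hN⟩ := hp e
  have hee : e ^ q ^ N = e := he.pow_eq (pow_pos (expChar_pos K q) N).ne'
  obtain ⟨w, hw⟩ := hee ▸ hN N le_rfl
  obtain ⟨F₀, B₀, hF₀, -, v, hv⟩ := SepTensor20.exists_fg (k := K) w
  obtain ⟨t, ht⟩ := hF₀
  let F : IntermediateField K Ω := IntermediateField.adjoin K (S.val '' (t : Set S))
  haveI : FiniteDimensional K F :=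
    IntermediateField.finiteDimensional_adjoin fun x _ => (Algebra.IsAlgebraic.isAlgebraic x).isIntegral
  have hFS : F ≤ S := IntermediateField.adjoin_le_iff.2 (by rintro _ ⟨x, -, rfl⟩; exact x.2)
  haveI : Algebra.IsSeparable K F := (le_separableClosure_iff K Ω F).1 hFS
  have hsub : ∀ x ∈ F₀, (S.val x) ∈ F := by
    intro x hx
    have : F₀ ≤ F.toSubalgebra.comap S.val :=
      ht ▸ Algebra.adjoin_le fun y hy => IntermediateField.subset_adjoin K _ ⟨y, hy, rfl⟩
    exact this hx
  let j : F₀ →ₐ[K] F := AlgHom.codRestrict (S.val.comp F₀.val) F.toSubalgebra fun x => hsub _ x.2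
  let v' : F ⊗[K] A := Algebra.TensorProduct.map j (Subalgebra.val _) v
  have hv' : Algebra.TensorProduct.map F.val (AlgHom.id K A) v' = e := by
    rw [← hw, ← hv]
    show Algebra.TensorProduct.map F.val (AlgHom.id K A) (Algebra.TensorProduct.map j B₀.val v) =
      Algebra.TensorProduct.map S.val (AlgHom.id K A) (Algebra.TensorProduct.map F₀.val B₀.val v)
    clear hv
    induction v using TensorProduct.induction_on with
    | zero => simp
    | tmul x a => rfl
    | add x y hx hy => simp only [map_add, hx, hy]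
  have hinj : Function.Injective (Algebra.TensorProduct.map F.val (AlgHom.id K A)) :=
    TensorProduct.map_injective_of_flat_flat F.val.toLinearMap (AlgHom.id K A).toLinearMap Subtype.val_injective
      Function.injective_id
  rw [← hv']
  exact idem_finite F (hinj (by rw [map_mul, hv']; exact he))

end Trace

section Main

variable {L : Type u} [Field L] [Algebra K L]

/-- Separable elements of the base change to an algebraically closed field. -/
theorem sepEl_algClosed {Ω : Type u} [Field Ω] [Algebra K Ω] [IsAlgClosed Ω] {z : Ω ⊗[K] A} (hz : SepEl Ω z) :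
    z ∈ ext Ω A := by
  obtain ⟨P, hP, hPz⟩ := hz
  have hsep : IsSeparable Ω z := hP.of_dvd (minpoly.dvd Ω z hPz)
  refine (Submodule.span_le (p := Subalgebra.toSubmodule (ext Ω A))).2 (fun e he => ?_)
    (SepTensor20.mem_span_idempotent hsep)
  let Kb : IntermediateField K Ω := algebraicClosure K Ω
  haveI : IsAlgClosed Kb := (algebraicClosure.isAlgClosure K Ω).isAlgClosed
  let c := Algebra.TensorProduct.cancelBaseChange K Kb Ω Ω A
  have hc : SepEl Kb (c.symm e) := sepEl_idempotent (he.map c.symm)
  obtain ⟨Q, hQ, hQz⟩ := hc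
  have hmem := SepTensor20.mem_span_tmul_idempotent (hQ.of_dvd (minpoly.dvd Kb (c.symm e) hQz))
  have : ∀ w ∈ Submodule.span Kb {z : Ω ⊗[Kb] (Kb ⊗[K] A) |
      ∃ f g, IsIdempotentElem f ∧ IsIdempotentElem g ∧ z = f ⊗ₜ[Kb] g}, c w ∈ ext Ω A := by
    intro w hw
    induction hw using Submodule.span_induction with
    | mem w hw =>
      obtain ⟨f, g, -, hg, rfl⟩ := hw
      obtain ⟨g', rfl⟩ := idem_algClosed (Ω := Kb) hg
      clear hg
      induction g' using TensorProduct.induction_on with
      | zero => simp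
      | tmul x a =>
        show c (f ⊗ₜ[Kb] (x ⊗ₜ[K] (a : A))) ∈ _
        rw [Algebra.TensorProduct.cancelBaseChange_tmul]
        exact ⟨_ ⊗ₜ a, rfl⟩
      | add x y hx hy => rw [map_add, tmul_add, map_add]; exact add_mem hx hy
    | zero => simp
    | add x y _ _ hx hy => rw [map_add]; exact add_mem hx hy
    | smul r x _ hx =>
      rw [← IsScalarTower.algebraMap_smul Ω r x, map_smul]
      exact Subalgebra.smul_mem _ hx _
  simpa using this _ hmem

theorem maxWeaklyEtale_baseChange :
    EtAlgD.maxWeaklyEtale L (L ⊗[K] A) =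
      Algebra.adjoin L ((Algebra.TensorProduct.includeRight : A →ₐ[K] L ⊗[K] A) ''
        (EtAlgD.maxWeaklyEtale K A : Set A)) := by
  refine le_antisymm (fun z hz => ?_) (Algebra.adjoin_le ?_)
  · let Ω := AlgebraicClosure L
    have hz' := ((mem_max_iff z).1 hz).map
      (Algebra.TensorProduct.map (Algebra.ofId L Ω) (AlgHom.id K A) : L ⊗[K] A →ₐ[L] Ω ⊗[K] A)
    obtain ⟨y, hy⟩ := sepEl_algClosed hz'.extend
    let E := Subalgebra.toSubmodule (EtAlgD.maxWeaklyEtale K A)
    let i : L →ₗ[K] Ω := (IsScalarTower.toAlgHom K L Ω).toLinearMap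
    have hi : Function.Injective (LinearMap.rTensor (A ⧸ E) i) :=
      Module.Flat.rTensor_preserves_injective_linearMap i (algebraMap L Ω).injective
    have h1 : LinearMap.lTensor L E.mkQ z = 0 := by
      apply hi
      rw [map_zero]
      have h2 : LinearMap.lTensor Ω E.mkQ (LinearMap.rTensor A i z) = 0 := by
        have hzero : ∀ y, LinearMap.lTensor Ω E.mkQ
            (Algebra.TensorProduct.map (AlgHom.id Ω Ω) (EtAlgD.maxWeaklyEtale K A).val y) = 0 := by
          intro y
          induction y using TensorProduct.induction_on with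
          | zero => simp
          | tmul x a =>
            show x ⊗ₜ[K] E.mkQ (a : A) = 0
            rw [show E.mkQ (a : A) = 0 from (Submodule.Quotient.mk_eq_zero E).2 a.2, tmul_zero]
          | add x y hx hy => rw [map_add, map_add, hx, hy, add_zero]
        refine Eq.trans (congrArg _ ?_) (hzero y)
        exact hy.symm
      rw [← LinearMap.comp_apply, LinearMap.rTensor_comp_lTensor, ← LinearMap.lTensor_comp_rTensor]
      exact h2
    obtain ⟨w, rfl⟩ := (lTensor_exact L (LinearMap.exact_subtype_mkQ E) E.mkQ_surjective z).1 h1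
    clear h1 hz hz' hy
    induction w using TensorProduct.induction_on with
    | zero => simp
    | tmul x a =>
      have : x ⊗ₜ[K] (a : A) = x • ((1 : L) ⊗ₜ[K] (a : A)) := by rw [TensorProduct.smul_tmul', smul_eq_mul, mul_one]
      rw [LinearMap.lTensor_tmul, E.subtype_apply, this]
      have hmem : (1 : L) ⊗ₜ[K] (a : A) ∈ (Algebra.TensorProduct.includeRight : A →ₐ[K] L ⊗[K] A) ''
          (EtAlgD.maxWeaklyEtale K A : Set A) := ⟨a.1, a.2, rfl⟩
      exact Subalgebra.smul_mem _ (Algebra.subset_adjoin hmem) _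
    | add x y hx hy => rw [map_add]; exact add_mem hx hy
  · rintro _ ⟨a, ha, rfl⟩
    exact (mem_max_iff _).2 (((mem_max_iff a).1 ha).map _).extend

end Main

end Groth.Agent.MaxWE3
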